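import Cfsg.Agent.Lib.Lead.HPT.PPoly

set_option autoImplicit false

/-! Piece HPT-DP: the difference of an ordered product `P` is the product one level up,
up to a sequence of level `2k+1` (commutators of level `k` with level `k+1`).
Recipe: induction on `m` with `P_succ`, `D_mul`, `Good.comm`, `Good.conj`, `Good.mul`
(`good hF hc r`), `P_isPoly`, `factor_isPoly`; Pascal: `Nat.choose_succ_succ`. -/

namespace Cfsg.Agent.Lead.HPT

open Cfsg.Agent.Helper21.PolySeq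
open scoped commutatorElement

variable {G : Type*} [Group G] {F : ℕ → Subgroup G}

theorem D_factor_succ (x : G) (s : ℕ) :
    D (fun n => x ^ (n.choose (s + 1))) = fun n => x ^ (n.choose s) := by
  funext n
  simp only [D]
  rw [Nat.choose_succ_succ, pow_add, mul_inv_cancel_right]

theorem D_factor_zero (x : G) : D (fun n => x ^ (n.choose 0)) = 1 := by
  funext n
  simp [D]

theorem D_P_succ (hF : Antitone F) (hc : ∀ i j, ⁅F i, F j⁆ ≤ F (i + j)) {X y : G}
    (hX : X ∈ F 1) (hy : y ∈ F 2) :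
    ∀ (m j s k : ℕ), s + 1 + k ≤ j + 2 → ∀ r,
      IsPoly F r (2 * k + 1) ((P X y j s m)⁻¹ * D (P X y j (s + 1) m)) := by
  intro m
  induction m with
  | zero =>
    intro j s k _ r
    rw [P_zero, P_zero, D_one, inv_one, one_mul]
    exact isPoly_one _ _
  | succ m ih =>
    intro j s k h r
    have H := good hF hc r
    rw [P_succ X y j s m, P_succ X y j (s + 1) m, D_mul, D_factor_succ]
    have hc' : IsPoly F r (2 * k + 1)
        ((P X y (j + 1) (s + 1) m)⁻¹ * D (P X y (j + 1) (s + 1 + 1) m)) :=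
      ih (j + 1) (s + 1) k (by omega) r
    have hapoly : IsPoly F r k (fun n => w X y j ^ (n.choose (s + 1))) :=
      factor_isPoly hF hc hX hy (by omega) r
    have hQ'poly : IsPoly F r (k + 1) (P X y (j + 1) (s + 1) m) :=
      P_isPoly hF hc hX hy m (j + 1) (s + 1) (k + 1) (by omega) r
    generalize (fun n => w X y j ^ (n.choose (s + 1)) : ℕ → G) = a at *
    generalize (fun n => w X y j ^ (n.choose s) : ℕ → G) = a' at *
    generalize P X y (j + 1) (s + 1) m = Q' at *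
    generalize D (P X y (j + 1) (s + 1 + 1) m) = DQ at *
    have hDQ : IsPoly F r (k + 1) DQ := by
      have : DQ = Q' * (Q'⁻¹ * DQ) := by group
      rw [this]
      exact H.mul _ _ _ hQ'poly (hc'.mono hF (by omega))
    have hcomm : IsPoly F r (2 * k + 1) ⁅a, DQ⁆ := by
      have := H.comm _ _ _ _ hapoly hDQ
      rwa [show k + (k + 1) = 2 * k + 1 by omega] at this
    have hconj : IsPoly F r (2 * k + 1) (Q'⁻¹ * ⁅a, DQ⁆ * Q'⁻¹⁻¹) :=
      H.conj hF (H.inv _ _ hQ'poly) hcomm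
    have e : (a' * Q')⁻¹ * (a' * ⁅a, DQ⁆ * DQ) =
        (Q'⁻¹ * ⁅a, DQ⁆ * Q'⁻¹⁻¹) * (Q'⁻¹ * DQ) := by group
    rw [e]
    exact H.mul _ _ _ hconj hc'

theorem D_P_zero (hF : Antitone F) (hc : ∀ i j, ⁅F i, F j⁆ ≤ F (i + j)) {X y : G}
    (hX : X ∈ F 1) (hy : y ∈ F 2) (m j r : ℕ) :
    IsPoly F r (2 * (j + 2) + 1) ((P X y (j + 1) 0 m)⁻¹ * D (P X y j 0 (m + 1))) := by
  have H := good hF hc r
  rw [P_succ X y j 0 m, D_mul, D_factor_zero, one_mul]
  have hc' : IsPoly F r (2 * (j + 2) + 1)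
      ((P X y (j + 1) 0 m)⁻¹ * D (P X y (j + 1) (0 + 1) m)) :=
    D_P_succ hF hc hX hy m (j + 1) 0 (j + 2) (by omega) r
  have hapoly : IsPoly F r (j + 2) (fun n => w X y j ^ (n.choose 0)) :=
    factor_isPoly hF hc hX hy (by omega) r
  have hQ'poly : IsPoly F r (j + 3) (P X y (j + 1) 0 m) :=
    P_isPoly hF hc hX hy m (j + 1) 0 (j + 3) (by omega) r
  generalize (fun n => w X y j ^ (n.choose 0) : ℕ → G) = a at *
  generalize P X y (j + 1) 0 m = Q' at *
  generalize D (P X y (j + 1) (0 + 1) m) = DQ at *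
  have hDQ : IsPoly F r (j + 3) DQ := by
    have : DQ = Q' * (Q'⁻¹ * DQ) := by group
    rw [this]
    exact H.mul _ _ _ hQ'poly (hc'.mono hF (by omega))
  have hcomm : IsPoly F r (2 * (j + 2) + 1) ⁅a, DQ⁆ := by
    have := H.comm _ _ _ _ hapoly hDQ
    rwa [show j + 2 + (j + 3) = 2 * (j + 2) + 1 by omega] at this
  have hconj : IsPoly F r (2 * (j + 2) + 1) (Q'⁻¹ * ⁅a, DQ⁆ * Q'⁻¹⁻¹) :=
    H.conj hF (H.inv _ _ hQ'poly) hcomm
  have e : Q'⁻¹ * (⁅a, DQ⁆ * DQ) = (Q'⁻¹ * ⁅a, DQ⁆ * Q'⁻¹⁻¹) * (Q'⁻¹ * DQ) := by group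
  rw [e]
  exact H.mul _ _ _ hconj hc'

end Cfsg.Agent.Lead.HPT
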