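import Mathlib
import Cfsg.Agent.Lib.Helper21.PolySeq

set_option autoImplicit false

/-! Exact top term of the Hall--Petrescu formula in a group with a strongly central filtration
`F` of length `p + 1` (`F (p+2) = ⊥`), for `x⁻¹ = X ∈ F 1` and `y ∈ F 2`:
`X^p * (X⁻¹ * y)^p = y^p * ⁅X, ⁅X, … ⁅X, y⁆ … ⁆⁆` (`p - 1` brackets),
provided `p`-th powers of `F 3` are trivial.  Definitions and the exact identities. -/

namespace Cfsg.Agent.Lead.HPT

open Cfsg.Agent.Helper21.PolySeq
open scoped commutatorElement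

variable {G : Type*} [Group G]

/-- Iterated commutators `w 0 = y`, `w (i+1) = ⁅X, w i⁆`. -/
def w (X y : G) : ℕ → G
  | 0 => y
  | i + 1 => ⁅X, w X y i⁆

/-- `U j n = X^n * w j * X^(-n)`. -/
def U (X y : G) (j : ℕ) : ℕ → G := fun n => X ^ n * w X y j * (X ^ n)⁻¹

/-- `u n = X^n * (X⁻¹ y)^n`. -/
def u (X y : G) : ℕ → G := fun n => X ^ n * (X⁻¹ * y) ^ n

/-- Ordered product `∏_{e < m} (w (j+e))^(n.choose (s+e))`. -/
def P (X y : G) : ℕ → ℕ → ℕ → (ℕ → G)
  | _, _, 0 => 1
  | j, s, m + 1 => (fun n => w X y j ^ (n.choose s)) * P X y (j + 1) (s + 1) m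

@[simp] theorem w_zero (X y : G) : w X y 0 = y := rfl
@[simp] theorem w_succ (X y : G) (i : ℕ) : w X y (i + 1) = ⁅X, w X y i⁆ := rfl

theorem U_zero (X y : G) (j : ℕ) : U X y j 0 = w X y j := by
  simp [U]

theorem D_U (X y : G) (j : ℕ) : D (U X y j) = U X y (j + 1) := by
  funext n
  simp only [D, U, w_succ, commutatorElement_def, pow_succ]
  group

theorem u_zero (X y : G) : u X y 0 = 1 := by
  simp [u]

theorem u_one (X y : G) : u X y 1 = y := by
  simp [u]

theorem D_u (X y : G) : D (u X y) = U X y 0 := by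
  funext n
  simp only [D, U, u, w_zero]
  rw [pow_succ' (X⁻¹ * y) n, pow_succ X n]
  group

@[simp] theorem P_zero (X y : G) (j s : ℕ) : P X y j s 0 = 1 := by
  cases j <;> cases s <;> rfl

theorem P_succ (X y : G) (j s m : ℕ) :
    P X y j s (m + 1) = (fun n => w X y j ^ (n.choose s)) * P X y (j + 1) (s + 1) m := by
  cases j <;> cases s <;> rfl

end Cfsg.Agent.Lead.HPT
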