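import Cfsg.Agent.Lib.Lead.HPT.W

set_option autoImplicit false

/-! Piece HPT-EVAL: value of `t = P 0 1 p` at `n = p`.
Recipe: general lemma by induction on `m`: if `1 ≤ s`, `s + m = p` (so the last exponent is
`choose p p`), `1 ≤ m`, and `(w (j+e))^p = 1` for all `e`, then
`P X y j s (m) p = w X y (j + m - 1)`; the factors with `s + e < p` die because
`p ∣ choose p (s+e)` (`Nat.Prime.dvd_choose_self`).  Then `P 0 1 p p = y^(choose p 1) * P 1 2 (p-1) p`. -/

namespace Cfsg.Agent.Lead.HPT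

open Cfsg.Agent.Helper21.PolySeq
open scoped commutatorElement

variable {G : Type*} [Group G] {F : ℕ → Subgroup G}

theorem hpteval_aux {X y : G} {p : ℕ} (hp : p.Prime)
    (hw : ∀ e, 1 ≤ e → (w X y e) ^ p = 1) :
    ∀ m j s, 1 ≤ j → 1 ≤ s → s + m = p → P X y j s (m + 1) p = w X y (j + m) := by
  intro m
  induction m with
  | zero =>
    intro j s _ _ hs
    obtain rfl : s = p := by omega
    rw [P_succ, Pi.mul_apply, P_zero]
    simp
  | succ m ih =>
    intro j s hj hs1 hs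
    rw [P_succ, Pi.mul_apply, ih (j + 1) (s + 1) (by omega) (by omega) (by omega)]
    obtain ⟨k, hk⟩ := hp.dvd_choose_self (by omega : s ≠ 0) (by omega : s < p)
    have h1 : w X y j ^ (p.choose s) = 1 := by
      rw [hk, pow_mul, hw j hj, one_pow]
    rw [h1, one_mul, show j + 1 + m = j + (m + 1) by omega]

theorem P_eval_p (hF : Antitone F) (hc : ∀ i j, ⁅F i, F j⁆ ≤ F (i + j)) {X y : G}
    (hX : X ∈ F 1) (hy : y ∈ F 2) {p : ℕ} (hp : p.Prime) (hexp : ∀ z ∈ F 3, z ^ p = 1) :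
    P X y 0 1 p p = y ^ p * w X y (p - 1) := by
  have hw : ∀ e, 1 ≤ e → (w X y e) ^ p = 1 := by
    intro e he
    exact hexp _ (hF (by omega : 3 ≤ e + 2) (w_mem hc hX hy e))
  obtain ⟨q, rfl⟩ : ∃ q, p = q + 2 := ⟨p - 2, by have := hp.two_le; omega⟩
  rw [P_succ, Pi.mul_apply, hpteval_aux hp hw q 1 2 le_rfl (by omega) (by omega)]
  simp only [w_zero, Nat.choose_one_right]
  rw [show q + 2 - 1 = 1 + q by omega]

end Cfsg.Agent.Lead.HPT
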