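import Cfsg.Agent.Lib.Lead.HPT.Defs

set_option autoImplicit false

/-! Piece HPT-Q: the quotient step.  If `D A = A' * c`, `D B = B'`, `A` has level `a`,
`A'`, `B'` have level `a+1`, `c` and `A'⁻¹ * B'` have level `L+1 ≤ 2a+1`, and `A 0 = B 0`,
then `A⁻¹ * B` has level `L`.
Recipe: `D_mul`, `D_inv` give
`D (A⁻¹ * B) = ⁅A⁻¹, (D A)⁻¹⁆ * c⁻¹ * (A'⁻¹ * ⁅A⁻¹, B'⁆ * A') * (A'⁻¹ * B')` (check with `group`
after `funext n; simp [D]`, or prove it from `D_mul`/`D_inv`); every factor has level `L+1`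
(`Good.comm` gives level `a + (a+1)`, then `IsPoly.mono`); values: `(A⁻¹*B) 0 = 1` and
`(A⁻¹*B)(n+1) = D(A⁻¹*B) n * (A⁻¹*B) n`. -/

namespace Cfsg.Agent.Lead.HPT

open Cfsg.Agent.Helper21.PolySeq
open scoped commutatorElement

variable {G : Type*} [Group G] {F : ℕ → Subgroup G}

theorem qstep_D_formula {A A' B B' c : ℕ → G} (hDA : D A = A' * c) (hDB : D B = B') :
    D (A⁻¹ * B) = ⁅A⁻¹, (D A)⁻¹⁆ * c⁻¹ * (A'⁻¹ * ⁅A⁻¹, B'⁆ * A'⁻¹⁻¹) * (A'⁻¹ * B') := by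
  rw [D_mul, D_inv, hDB]
  have : (D A)⁻¹ = c⁻¹ * A'⁻¹ := by rw [hDA, mul_inv_rev]
  rw [this]
  simp only [mul_assoc, inv_inv]
  group

theorem qstep_values {L : ℕ} (hF : Antitone F) {g : ℕ → G} (h0 : g 0 = 1)
    (hD : ∀ n, D g n ∈ F (L + 1)) : ∀ n, g n ∈ F L := by
  have key : ∀ n, g n ∈ F (L + 1) := by
    intro n
    induction n with
    | zero => rw [h0]; exact one_mem _
    | succ n ih =>
      have h1 : g (n + 1) = D g n * g n := by simp [D]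
      rw [h1]
      exact mul_mem (hD n) ih
  intro n
  exact hF (Nat.le_succ L) (key n)

theorem quot_step (hF : Antitone F) (hc : ∀ i j, ⁅F i, F j⁆ ≤ F (i + j)) {a L : ℕ}
    (hL : L + 1 ≤ 2 * a + 1) {A A' B B' c : ℕ → G}
    (hA : ∀ r, IsPoly F r a A) (hA' : ∀ r, IsPoly F r (a + 1) A')
    (hc' : ∀ r, IsPoly F r (L + 1) c) (hDA : D A = A' * c)
    (hB' : ∀ r, IsPoly F r (a + 1) B') (hDB : D B = B')
    (hq : ∀ r, IsPoly F r (L + 1) (A'⁻¹ * B')) (h0 : A 0 = B 0) :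
    ∀ r, IsPoly F r L (A⁻¹ * B) := by
  have hLa : L + 1 ≤ a + (a + 1) := by omega
  have hLa1 : a + 1 ≤ L + 1 ∨ True := Or.inr trivial
  -- level of D (A⁻¹ * B)
  have hD : ∀ r, IsPoly F r (L + 1) (D (A⁻¹ * B)) := by
    intro r
    have H := good hF hc r
    rw [qstep_D_formula hDA hDB]
    have hAi : IsPoly F r a A⁻¹ := H.inv _ _ (hA r)
    have hDAi : IsPoly F r (a + 1) (D A)⁻¹ := by
      have : IsPoly F r (a + 1) (D A) := by
        have := hA (r + 1)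
        exact this.2
      exact H.inv _ _ this
    have h1 : IsPoly F r (L + 1) ⁅A⁻¹, (D A)⁻¹⁆ :=
      (H.comm _ _ _ _ hAi hDAi).mono hF hLa
    have h2 : IsPoly F r (L + 1) c⁻¹ := H.inv _ _ (hc' r)
    have h3 : IsPoly F r (L + 1) ⁅A⁻¹, B'⁆ :=
      (H.comm _ _ _ _ hAi (hB' r)).mono hF hLa
    have h4 : IsPoly F r (L + 1) (A'⁻¹ * ⁅A⁻¹, B'⁆ * A'⁻¹⁻¹) :=
      H.conj hF (H.inv _ _ (hA' r)) h3
    exact H.mul _ _ _ (H.mul _ _ _ (H.mul _ _ _ h1 h2) h4) (hq r)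
  have hval : ∀ n, (A⁻¹ * B) n ∈ F L := by
    apply qstep_values hF
    · simp [h0]
    · intro n
      exact (hD 0) n
  intro r
  cases r with
  | zero => exact hval
  | succ r => exact ⟨hval, by
      have := hD r
      exact this.mono hF (le_refl _)⟩

end Cfsg.Agent.Lead.HPT
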