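import Cfsg.Agent.Lib.Lead.HPT.DP
import Cfsg.Agent.Lib.Lead.HPT.QStep

set_option autoImplicit false

/-! Piece HPT-ML: main lemma (downward induction) and the level of `g = t⁻¹ * u`.
Recipe for `main_lemma`: induction on `d`; `d = 0`: `P_zero`, `U_eq_one`, `isPoly_one`;
step: `quot_step` with `a = j+2`, `L = j+3`, `A = P j 0 (d+1)`, `A' = P (j+1) 0 d`,
`c = A'⁻¹ * D A` (`D_P_zero`, `IsPoly.mono`), `B = U j`, `B' = U (j+1)` (`D_U`, `U_isPoly`),
`hq` = induction hypothesis at `j+1`, `h0` = `P_zero_eval_zero`, `U_zero`.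
Recipe for `g_isPoly`: `quot_step` with `a = 1`, `L = 2`, `A = P 0 1 p`, `A' = P 0 0 p`,
`c = A'⁻¹ * D A` (`D_P_succ` with `s = 0`, `k = 1`), `B = u`, `B' = U 0` (`D_u`),
`hq` = `main_lemma p 0`, `h0` = `P_succ_eval_zero`, `u_zero`. -/

namespace Cfsg.Agent.Lead.HPT

open Cfsg.Agent.Helper21.PolySeq
open scoped commutatorElement

variable {G : Type*} [Group G] {F : ℕ → Subgroup G}

theorem main_lemma (hF : Antitone F) (hc : ∀ i j, ⁅F i, F j⁆ ≤ F (i + j)) {X y : G}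
    (hX : X ∈ F 1) (hy : y ∈ F 2) {p : ℕ} (hFp : F (p + 2) = ⊥) :
    ∀ (d j : ℕ), j + d = p → ∀ r, IsPoly F r (j + 3) ((P X y j 0 d)⁻¹ * U X y j) := by
  intro d
  induction d with
  | zero =>
    intro j hj r
    have hpj : p ≤ j := by omega
    rw [P_zero, U_eq_one hF hc hX hy hFp hpj, inv_one, one_mul]
    exact isPoly_one r (j + 3)
  | succ d ih =>
    intro j hj
    have hIH := ih (j + 1) (by omega)
    have hL : (j + 3) + 1 ≤ 2 * (j + 2) + 1 := by omega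
    have hA : ∀ r, IsPoly F r (j + 2) (P X y j 0 (d + 1)) :=
      fun r => P_isPoly hF hc hX hy (d + 1) j 0 (j + 2) (by omega) r
    have hA' : ∀ r, IsPoly F r (j + 2 + 1) (P X y (j + 1) 0 d) :=
      fun r => P_isPoly hF hc hX hy d (j + 1) 0 (j + 2 + 1) (by omega) r
    have hcc : ∀ r, IsPoly F r (j + 3 + 1)
        ((P X y (j + 1) 0 d)⁻¹ * D (P X y j 0 (d + 1))) :=
      fun r => (D_P_zero hF hc hX hy d j r).mono hF (by omega)
    have hDA : D (P X y j 0 (d + 1))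
        = P X y (j + 1) 0 d * ((P X y (j + 1) 0 d)⁻¹ * D (P X y j 0 (d + 1))) :=
      (mul_inv_cancel_left _ _).symm
    have hB' : ∀ r, IsPoly F r (j + 2 + 1) (U X y (j + 1)) := by
      intro r
      have := U_isPoly hF hc hX hy r (j + 1)
      have e : j + 1 + 2 = j + 2 + 1 := by omega
      rwa [e] at this
    have hq : ∀ r, IsPoly F r (j + 3 + 1) ((P X y (j + 1) 0 d)⁻¹ * U X y (j + 1)) := by
      intro r
      have := hIH r
      have e : j + 1 + 3 = j + 3 + 1 := by omega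
      rwa [e] at this
    have h0 : P X y j 0 (d + 1) 0 = U X y j 0 := by
      rw [P_zero_eval_zero, U_zero]
    exact quot_step hF hc hL hA hA' hcc hDA hB' (D_U X y j) hq h0

theorem g_isPoly (hF : Antitone F) (hc : ∀ i j, ⁅F i, F j⁆ ≤ F (i + j)) {X y : G}
    (hX : X ∈ F 1) (hy : y ∈ F 2) {p : ℕ} (hFp : F (p + 2) = ⊥) :
    ∀ r, IsPoly F r 2 ((P X y 0 1 p)⁻¹ * u X y) := by
  have hL : 2 + 1 ≤ 2 * 1 + 1 := by omega
  have hA : ∀ r, IsPoly F r 1 (P X y 0 1 p) :=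
    fun r => P_isPoly hF hc hX hy p 0 1 1 (by omega) r
  have hA' : ∀ r, IsPoly F r (1 + 1) (P X y 0 0 p) :=
    fun r => P_isPoly hF hc hX hy p 0 0 (1 + 1) (by omega) r
  have hcc : ∀ r, IsPoly F r (2 + 1) ((P X y 0 0 p)⁻¹ * D (P X y 0 1 p)) := by
    intro r
    have := D_P_succ hF hc hX hy p 0 0 1 (by omega) r
    exact this
  have hDA : D (P X y 0 1 p) = P X y 0 0 p * ((P X y 0 0 p)⁻¹ * D (P X y 0 1 p)) :=
    (mul_inv_cancel_left _ _).symm
  have hB' : ∀ r, IsPoly F r (1 + 1) (U X y 0) := by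
    intro r
    have := U_isPoly hF hc hX hy r 0
    exact this
  have hq : ∀ r, IsPoly F r (2 + 1) ((P X y 0 0 p)⁻¹ * U X y 0) := by
    intro r
    have := main_lemma hF hc hX hy hFp p 0 (by omega) r
    exact this
  have h0 : P X y 0 1 p 0 = u X y 0 := by
    rw [u_zero]
    exact P_succ_eval_zero X y p 0 0
  exact quot_step hF hc hL hA hA' hcc hDA hB' (D_u X y) hq h0

end Cfsg.Agent.Lead.HPT
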