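import Cfsg.Agent.Lib.Lead.HPT.W

set_option autoImplicit false

/-! Piece HPT-PPOLY: the ordered products `P j s m` are polynomial sequences of level `k`
as soon as `s + k ≤ j + 2`; values of `P` at `0`. -/

namespace Cfsg.Agent.Lead.HPT

open Cfsg.Agent.Helper21.PolySeq
open scoped commutatorElement

variable {G : Type*} [Group G] {F : ℕ → Subgroup G}

theorem factor_isPoly (hF : Antitone F) (hc : ∀ i j, ⁅F i, F j⁆ ≤ F (i + j)) {X y : G}
    (hX : X ∈ F 1) (hy : y ∈ F 2) {j s k : ℕ} (h : s + k ≤ j + 2) (r : ℕ) :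
    IsPoly F r k (fun n => w X y j ^ (n.choose s)) :=
  isPoly_choose hF r s k (w X y j) (hF h (w_mem hc hX hy j))

theorem P_isPoly (hF : Antitone F) (hc : ∀ i j, ⁅F i, F j⁆ ≤ F (i + j)) {X y : G}
    (hX : X ∈ F 1) (hy : y ∈ F 2) :
    ∀ (m j s k : ℕ), s + k ≤ j + 2 → ∀ r, IsPoly F r k (P X y j s m) := by
  intro m
  induction m with
  | zero =>
    intro j s k _ r
    rw [P_zero]
    exact isPoly_one r k
  | succ m ih =>
    intro j s k h r
    rw [P_succ]
    exact (good hF hc r).mul k _ _ (factor_isPoly hF hc hX hy h r)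
      (ih (j + 1) (s + 1) k (by omega) r)

/-- All exponents `choose 0 (s+1+e)` vanish. -/
theorem P_succ_eval_zero (X y : G) : ∀ (m j s : ℕ), P X y j (s + 1) m 0 = 1 := by
  intro m
  induction m with
  | zero =>
    intro j s
    rw [P_zero]
    rfl
  | succ m ih =>
    intro j s
    rw [P_succ, Pi.mul_apply, ih (j + 1) (s + 1), Nat.choose_zero_succ, pow_zero, one_mul]

theorem P_zero_eval_zero (X y : G) (m j : ℕ) : P X y j 0 (m + 1) 0 = w X y j := by
  rw [P_succ, Pi.mul_apply, P_succ_eval_zero X y m (j + 1) 0, Nat.choose_self, pow_one, mul_one]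

end Cfsg.Agent.Lead.HPT
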