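import Cfsg.Agent.Lib.Lead.HPT.ML

set_option autoImplicit false

/-! Piece HPT-SHIFT: shifted filtration and `peel`.
`isPoly_shift` by induction on `r` (generalizing `k g`); `g_p`: apply `peel` to
`F' i := F (i+2)` with `M = ⊥`, `d = p - 2`, `j = 2`; `g 0 = 1` (`P_succ_eval_zero`, `u_zero`),
`g 1 = 1` (`P_eval_one`, `u_one`). -/

namespace Cfsg.Agent.Lead.HPT

open Cfsg.Agent.Helper21.PolySeq
open scoped commutatorElement

variable {G : Type*} [Group G] {F : ℕ → Subgroup G}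

theorem isPoly_shift : ∀ (r k : ℕ) (g : ℕ → G),
    IsPoly F r (k + 2) g ↔ IsPoly (fun i => F (i + 2)) r k g := by
  intro r
  induction r with
  | zero =>
    intro k g
    exact Iff.rfl
  | succ r ih =>
    intro k g
    have h := ih (k + 1) (D g)
    have e : k + 2 + 1 = k + 1 + 2 := by omega
    constructor
    · rintro ⟨h1, h2⟩
      refine ⟨h1, h.mp ?_⟩
      rw [← e]
      exact h2
    · rintro ⟨h1, h2⟩
      refine ⟨h1, ?_⟩
      rw [e]
      exact h.mpr h2

/-- for `s ≥ 2` all exponents `choose 1 (s+e)` vanish -/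
theorem shift_P_eval_one_aux (X y : G) : ∀ (m j s : ℕ), 2 ≤ s → P X y j s m 1 = 1 := by
  intro m
  induction m with
  | zero =>
    intro j s _
    rw [P_zero]
    rfl
  | succ m ih =>
    intro j s hs
    rw [P_succ, Pi.mul_apply, ih (j + 1) (s + 1) (by omega), mul_one]
    show w X y j ^ (Nat.choose 1 s) = 1
    rw [Nat.choose_eq_zero_of_lt (by omega), pow_zero]

/-- At `n = 1` only the first factor of `P 0 1 m` survives. -/
theorem P_eval_one (X y : G) (m : ℕ) : P X y 0 1 (m + 1) 1 = y := by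
  rw [P_succ, Pi.mul_apply, shift_P_eval_one_aux X y m 1 2 le_rfl, mul_one]
  show w X y 0 ^ (Nat.choose 1 1) = y
  rw [Nat.choose_self, pow_one, w_zero]

theorem g_p (hF : Antitone F) (hc : ∀ i j, ⁅F i, F j⁆ ≤ F (i + j)) {X y : G}
    (hX : X ∈ F 1) (hy : y ∈ F 2) {p : ℕ} (hp : p.Prime) (hFp : F (p + 2) = ⊥)
    (hexp : ∀ z ∈ F 3, z ^ p = 1) :
    ((P X y 0 1 p)⁻¹ * u X y) p = 1 := by
  have hp2 : 2 ≤ p := hp.two_le
  have hF' : Antitone (fun i => F (i + 2)) := by
    intro i j hij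
    exact hF (Nat.add_le_add_right hij 2)
  have hc' : ∀ i j, ⁅(fun i => F (i + 2)) i, (fun i => F (i + 2)) j⁆ ≤ (fun i => F (i + 2)) (i + j) := by
    intro i j
    exact (hc (i + 2) (j + 2)).trans (hF (by omega))
  have hM : ∀ x ∈ (fun i => F (i + 2)) 2, x ^ p ∈ (⊥ : Subgroup G) := by
    intro x hx
    rw [Subgroup.mem_bot]
    exact hexp x (hF (by norm_num) hx)
  have hpoly : Poly (fun i => F (i + 2)) ((P X y 0 1 p)⁻¹ * u X y) := by
    intro r
    apply (isPoly_shift r 0 _).mp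
    rw [Nat.zero_add]
    exact g_isPoly hF hc hX hy hFp r
  have hv : ∀ i, i < 2 → ((P X y 0 1 p)⁻¹ * u X y) i = 1 := by
    intro i hi
    have hi' : i = 0 ∨ i = 1 := by omega
    rcases hi' with rfl | rfl
    · rw [Pi.mul_apply, Pi.inv_apply, P_succ_eval_zero X y p 0 0, u_zero, inv_one, one_mul]
    · obtain ⟨m, rfl⟩ : ∃ m, p = m + 1 := ⟨p - 1, by omega⟩
      rw [Pi.mul_apply, Pi.inv_apply, P_eval_one, u_one, inv_mul_cancel]
  have h := peel hF' hc' hp hFp ⊥ hM (p - 2) 2 (by omega) le_rfl _ hpoly hv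
  exact Subgroup.mem_bot.mp h

end Cfsg.Agent.Lead.HPT
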