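import Cfsg.Agent.Lib.Lead.HPT.Shift
import Cfsg.Agent.Lib.Lead.HPT.Eval

set_option autoImplicit false

/-! Exact top term of Hall--Petrescu (assembly). -/

namespace Cfsg.Agent.Lead.HPT

open Cfsg.Agent.Helper21.PolySeq
open scoped commutatorElement

variable {G : Type*} [Group G] {F : ℕ → Subgroup G}

/-- `X^p * (X⁻¹ y)^p = y^p * ⁅X, … ⁅X, y⁆ … ⁆` (`p - 1` brackets). -/
theorem hp_top (hF : Antitone F) (hc : ∀ i j, ⁅F i, F j⁆ ≤ F (i + j)) {X y : G}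
    (hX : X ∈ F 1) (hy : y ∈ F 2) {p : ℕ} (hp : p.Prime) (hFp : F (p + 2) = ⊥)
    (hexp : ∀ z ∈ F 3, z ^ p = 1) :
    X ^ p * (X⁻¹ * y) ^ p = y ^ p * w X y (p - 1) := by
  have h1 := g_p hF hc hX hy hp hFp hexp
  have h2 := P_eval_p hF hc hX hy hp hexp
  simp only [Pi.mul_apply, Pi.inv_apply] at h1
  have h3 : u X y p = P X y 0 1 p p := by
    have := congrArg (fun z => P X y 0 1 p p * z) h1
    simpa using this
  rw [← h2, ← h3]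
  rfl

/-- The same with `x = X⁻¹`: `(x y)^p = x^p * y^p * ⁅x⁻¹, … ⁅x⁻¹, y⁆ … ⁆`. -/
theorem hp_top' (hF : Antitone F) (hc : ∀ i j, ⁅F i, F j⁆ ≤ F (i + j)) {x y : G}
    (hx : x ∈ F 1) (hy : y ∈ F 2) {p : ℕ} (hp : p.Prime) (hFp : F (p + 2) = ⊥)
    (hexp : ∀ z ∈ F 3, z ^ p = 1) :
    (x * y) ^ p = x ^ p * (y ^ p * w x⁻¹ y (p - 1)) := by
  have h := hp_top hF hc (inv_mem hx) hy hp hFp hexp
  rw [inv_inv] at h
  rw [← h, ← mul_assoc, inv_pow, mul_inv_cancel, one_mul]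

end Cfsg.Agent.Lead.HPT
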