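import Cfsg.Agent.Lib.Lead.HPT.Defs

set_option autoImplicit false

/-! Piece HPT-W: membership of the iterated commutators and polynomiality of `U j`. -/

namespace Cfsg.Agent.Lead.HPT

open Cfsg.Agent.Helper21.PolySeq
open scoped commutatorElement

variable {G : Type*} [Group G] {F : ℕ → Subgroup G}

theorem w_mem (hc : ∀ i j, ⁅F i, F j⁆ ≤ F (i + j)) {X y : G} (hX : X ∈ F 1) (hy : y ∈ F 2) :
    ∀ i, w X y i ∈ F (i + 2) := by
  intro i
  induction i with
  | zero => simpa using hy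
  | succ i ih =>
    have h := hc 1 (i + 2) (Subgroup.commutator_mem_commutator hX ih)
    rw [w_succ]
    rwa [show 1 + (i + 2) = i + 1 + 2 by omega] at h

theorem conj_pow_mem (hF : Antitone F) (hc : ∀ i j, ⁅F i, F j⁆ ≤ F (i + j)) {X z : G} (hX : X ∈ F 1)
    {k : ℕ} (hz : z ∈ F k) (n : ℕ) : X ^ n * z * (X ^ n)⁻¹ ∈ F k := by
  have h1 : X ^ n * z * (X ^ n)⁻¹ = ⁅X ^ n, z⁆ * z := by
    simp only [commutatorElement_def]
    group
  rw [h1]
  refine mul_mem ?_ hz
  have h := hc 1 k (Subgroup.commutator_mem_commutator (pow_mem hX n) hz)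
  exact hF (by omega) h

theorem U_isPoly (hF : Antitone F) (hc : ∀ i j, ⁅F i, F j⁆ ≤ F (i + j)) {X y : G} (hX : X ∈ F 1)
    (hy : y ∈ F 2) : ∀ r j, IsPoly F r (j + 2) (U X y j) := by
  intro r
  induction r with
  | zero =>
    intro j n
    exact conj_pow_mem hF hc hX (w_mem hc hX hy j) n
  | succ r ih =>
    intro j
    refine ⟨fun n => conj_pow_mem hF hc hX (w_mem hc hX hy j) n, ?_⟩
    rw [D_U]
    exact ih (j + 1)

theorem U_eq_one (hF : Antitone F) (hc : ∀ i j, ⁅F i, F j⁆ ≤ F (i + j)) {X y : G} (hX : X ∈ F 1)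
    (hy : y ∈ F 2) {p : ℕ} (hFp : F (p + 2) = ⊥) {j : ℕ} (hj : p ≤ j) : U X y j = 1 := by
  have h1 : w X y j = 1 := by
    have := hF (show p + 2 ≤ j + 2 by omega) (w_mem hc hX hy j)
    rwa [hFp, Subgroup.mem_bot] at this
  funext n
  simp [U, h1]

end Cfsg.Agent.Lead.HPT
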